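import Mathlib

/-!
Odd product graph on a class of involutions: every Sylow 2-subgroup meets every connected
component (proof by induction on the order of the group and downwards on 2-subgroups).
-/

set_option autoImplicit false

namespace CfsgLib.OddGraph

universe u

variable {G : Type u} [Group G]

/-- Two conjugates of `t` with product of odd order. -/
def Edge (t x y : G) : Prop := IsConj t x ∧ IsConj t y ∧ Odd (orderOf (x * y))

/-- The equivalence generated by `Edge`. -/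
def Link (t : G) : G → G → Prop := Relation.EqvGen (Edge t)

/-- The conjugates of `t` linked to a conjugate inside `P`. -/
def meet (t : G) (P : Subgroup G) : Set G :=
  {x | IsConj t x ∧ ∃ y ∈ P, IsConj t y ∧ Link t x y}

theorem link_conj {t x y : G} (g : G) (h : Link t x y) : Link t (g * x * g⁻¹) (g * y * g⁻¹) := by
  induction h with
  | rel a b hab =>
    refine Relation.EqvGen.rel _ _ ⟨hab.1.trans (isConj_iff.mpr ⟨g, rfl⟩),
      hab.2.1.trans (isConj_iff.mpr ⟨g, rfl⟩), ?_⟩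
    have : g * a * g⁻¹ * (g * b * g⁻¹) = MulAut.conj g (a * b) := by simp [mul_assoc]
    rw [this, MulEquiv.orderOf_eq]
    exact hab.2.2
  | refl a => exact Relation.EqvGen.refl _
  | symm a b _ ih => exact Relation.EqvGen.symm _ _ ih
  | trans a b c _ _ ih1 ih2 => exact Relation.EqvGen.trans _ _ _ ih1 ih2

theorem link_subgroup {t : G} (L : Subgroup G) {a : ↥L} (ha : IsConj t (a : G)) {x y : ↥L}
    (h : Link a x y) : Link t (x : G) (y : G) := by
  induction h with
  | rel b c hbc =>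
    refine Relation.EqvGen.rel _ _ ⟨ha.trans (L.subtype.map_isConj hbc.1),
      ha.trans (L.subtype.map_isConj hbc.2.1), ?_⟩
    rw [← Subgroup.coe_mul, Subgroup.orderOf_coe]
    exact hbc.2.2
  | refl b => exact Relation.EqvGen.refl _
  | symm b c _ ih => exact Relation.EqvGen.symm _ _ ih
  | trans b c d _ _ ih1 ih2 => exact Relation.EqvGen.trans _ _ _ ih1 ih2

theorem meet_mono {t : G} {P Q : Subgroup G} (h : P ≤ Q) : meet t P ⊆ meet t Q := by
  rintro x ⟨hx, y, hy, hyt, hl⟩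
  exact ⟨hx, y, h hy, hyt, hl⟩

theorem meet_conj {t : G} {P : Subgroup G} {g x : G}
    (hg : ∀ a ∈ P, g * a * g⁻¹ ∈ P) (hx : x ∈ meet t P) : g * x * g⁻¹ ∈ meet t P := by
  obtain ⟨hxt, y, hy, hyt, hl⟩ := hx
  exact ⟨hxt.trans (isConj_iff.mpr ⟨g, rfl⟩), g * y * g⁻¹, hg y hy,
    hyt.trans (isConj_iff.mpr ⟨g, rfl⟩), link_conj g hl⟩

/-- The stabiliser of a set under conjugation. -/
def setStab (K : Set G) : Subgroup G where
  carrier := {g | ∀ x, x ∈ K ↔ g * x * g⁻¹ ∈ K}
  one_mem' := by simp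
  mul_mem' := by
    intro a b ha hb x
    rw [hb x, ha (b * x * b⁻¹)]
    simp [mul_assoc]
  inv_mem' := by
    intro a ha x
    have := ha (a⁻¹ * x * a⁻¹⁻¹)
    simp [mul_assoc] at this ⊢
    exact this.symm

theorem normalizer_le_setStab {t : G} {P : Subgroup G} :
    Subgroup.normalizer (P : Set G) ≤ setStab (meet t P) := by
  intro g hg x
  constructor
  · exact meet_conj (fun a ha => (Subgroup.mem_normalizer_iff.mp hg a).mp ha)
  · intro hx
    have hg' := (Subgroup.normalizer (P : Set G)).inv_mem hg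
    have := meet_conj (g := g⁻¹) (fun a ha => (Subgroup.mem_normalizer_iff.mp hg' a).mp ha) hx
    simpa [mul_assoc] using this

theorem odd_of_conj_in_closure {x y : G} (hx : x * x = 1) (hy : y * y = 1) {g : G}
    (hg : g ∈ Subgroup.closure ({x, y} : Set G)) (hc : g * x * g⁻¹ = y) :
    Odd (orderOf (x * y)) := by
  set r := x * y with hr
  have hxi : x⁻¹ = x := inv_eq_of_mul_eq_one_right hx
  have hyi : y⁻¹ = y := inv_eq_of_mul_eq_one_right hy
  have hflip : ∀ i : ℤ, x * r ^ i * x = r ^ (-i) := by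
    intro i
    have h1 : x * r * x⁻¹ = r⁻¹ := by
      rw [hr, mul_inv_rev, hxi, hyi]
      simp [← mul_assoc, hx]
    have h2 : (x * r * x⁻¹) ^ i = x * r ^ i * x⁻¹ := conj_zpow
    rw [h1, inv_zpow', hxi] at h2
    exact h2.symm
  have hcomm : ∀ i : ℤ, x * r ^ i = r ^ (-i) * x := by
    intro i
    rw [← hflip i]
    simp [mul_assoc, hx]
  have key : ∀ a ∈ Subgroup.closure ({x, y} : Set G), ∃ i : ℤ, a = r ^ i ∨ a = r ^ i * x := by
    intro a ha
    induction ha using Subgroup.closure_induction with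
    | mem z hz =>
      rcases hz with rfl | rfl
      · exact ⟨0, Or.inr (by simp)⟩
      · refine ⟨-1, Or.inr ?_⟩
        rw [zpow_neg_one, hr, mul_inv_rev, hyi, hxi, mul_assoc, hx, mul_one]
    | one => exact ⟨0, Or.inl (by simp)⟩
    | mul p q _ _ hp hq =>
      obtain ⟨i, hp⟩ := hp
      obtain ⟨j, hq⟩ := hq
      rcases hp with rfl | rfl <;> rcases hq with rfl | rfl
      · exact ⟨i + j, Or.inl (zpow_add r i j).symm⟩
      · exact ⟨i + j, Or.inr (by rw [← mul_assoc, ← zpow_add])⟩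
      · exact ⟨i - j, Or.inr (by rw [mul_assoc, hcomm j, ← mul_assoc, ← zpow_add, sub_eq_add_neg])⟩
      · refine ⟨i - j, Or.inl ?_⟩
        rw [mul_assoc, ← mul_assoc x (r ^ j) x, hflip j, ← zpow_add, sub_eq_add_neg]
    | inv p _ hp =>
      obtain ⟨i, rfl | rfl⟩ := hp
      · exact ⟨-i, Or.inl (zpow_neg r i).symm⟩
      · refine ⟨i, Or.inr ?_⟩
        rw [mul_inv_rev, hxi, ← zpow_neg, hcomm, neg_neg]
  obtain ⟨i, hi⟩ := key g hg
  have hy2 : r ^ i * x * (r ^ i)⁻¹ = y := by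
    rcases hi with rfl | rfl
    · exact hc
    · rw [← hc, mul_inv_rev, hxi]
      simp [mul_assoc, hx]
  rw [← zpow_neg, mul_assoc, hcomm, neg_neg, ← mul_assoc, ← zpow_add] at hy2
  have h3 : r ^ (2 * i + 1) = 1 := by
    have hry : y = r ^ (-1 : ℤ) * x := by
      rw [zpow_neg_one, hr, mul_inv_rev, hyi, hxi, mul_assoc, hx, mul_one]
    have h4 : r ^ (i + i) = r ^ (-1 : ℤ) := mul_right_cancel (hy2.trans hry)
    rw [zpow_add_one, two_mul, h4, zpow_neg_one, inv_mul_cancel]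
  have hdvd : (orderOf r : ℤ) ∣ 2 * i + 1 := orderOf_dvd_iff_zpow_eq_one.mpr h3
  have hodd : Odd (2 * i + 1) := ⟨i, rfl⟩
  rw [← Int.natAbs_odd] at hodd
  exact hodd.of_dvd_nat (Int.natCast_dvd.mp hdvd)

theorem exists_sylow_in [Finite G] {L P : Subgroup G} (hPL : P ≤ L) (hP : IsPGroup 2 P) :
    ∃ T : Sylow 2 ↥L, P ≤ (T : Subgroup ↥L).map L.subtype := by
  obtain ⟨T, hT⟩ := (hP.of_equiv (Subgroup.subgroupOfEquivOfLe hPL).symm).exists_le_sylow
  refine ⟨T, fun a ha => ?_⟩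
  exact ⟨⟨a, hPL ha⟩, hT ha, rfl⟩

theorem lt_inf_normalizer [Finite G] {P : Subgroup G} {S : Sylow 2 G} (h : P < (S : Subgroup G)) :
    P < (S : Subgroup G) ⊓ Subgroup.normalizer (P : Set G) := by
  have hnil : Group.IsNilpotent ↥(S : Subgroup G) := S.isPGroup'.isNilpotent
  have hne : P.subgroupOf (S : Subgroup G) < ⊤ := by
    rw [lt_top_iff_ne_top, ne_eq, Subgroup.subgroupOf_eq_top]
    exact not_le_of_gt h
  have hlt := Group.normalizerCondition_of_isNilpotent _ hne
  obtain ⟨a, ha, ha'⟩ := SetLike.exists_of_lt hlt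
  refine lt_of_le_of_ne (le_inf h.le Subgroup.le_normalizer) ?_
  intro heq
  apply ha'
  rw [Subgroup.mem_subgroupOf]
  rw [heq]
  refine ⟨a.2, ?_⟩
  show (a : G) ∈ Subgroup.normalizer (P : Set G)
  rw [Subgroup.mem_normalizer_iff]
  intro b
  constructor
  · intro hb
    have := (Subgroup.mem_normalizer_iff.mp ha ⟨b, h.le hb⟩).mp hb
    simpa [Subgroup.mem_subgroupOf] using this
  · intro hb
    have hbS : (a : G) * b * (a : G)⁻¹ ∈ (S : Subgroup G) := h.le hb
    have hb' : b ∈ (S : Subgroup G) := by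
      have := (S : Subgroup G).mul_mem ((S : Subgroup G).mul_mem ((S : Subgroup G).inv_mem a.2) hbS) a.2
      simpa [mul_assoc] using this
    have := (Subgroup.mem_normalizer_iff.mp ha ⟨b, hb'⟩).mpr hb
    simpa [Subgroup.mem_subgroupOf] using this

section Step

variable [Finite G] {t : G}
  (hA : ∀ L : Subgroup G, L ≠ ⊤ → ∀ x ∈ L, IsConj t x → ∀ T : Sylow 2 ↥L,
    ∃ y ∈ (T : Subgroup ↥L).map L.subtype, IsConj t y ∧ Link t x y)

include hA

theorem meet_sylow_eq {L : Subgroup G} (hL : L ≠ ⊤) (T : Sylow 2 ↥L) :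
    meet t ((T : Subgroup ↥L).map L.subtype) = meet t L := by
  refine le_antisymm (meet_mono (Subgroup.map_subtype_le _)) ?_
  rintro x ⟨hx, y, hy, hyt, hl⟩
  obtain ⟨z, hz, hzt, hl'⟩ := hA L hL y hy hyt T
  exact ⟨hx, z, hz, hzt, Relation.EqvGen.trans _ _ _ hl hl'⟩

theorem both_claims (d : ℕ) :
    (∀ P : Subgroup G, Nat.card G - Nat.card P = d → IsPGroup 2 P → (∃ x ∈ P, IsConj t x) →
      ∀ S₁ S₂ : Sylow 2 G, P ≤ S₁ → P ≤ S₂ → meet t (S₁ : Subgroup G) = meet t (S₂ : Subgroup G)) ∧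
    (∀ L : Subgroup G, L ≠ ⊤ → (∃ x ∈ L, IsConj t x) → ∀ T₁ T₂ : Sylow 2 ↥L,
      Nat.card G - Nat.card ↥((T₁ : Subgroup ↥L).map L.subtype) = d →
      ∀ S₁ S₂ : Sylow 2 G, (T₁ : Subgroup ↥L).map L.subtype ≤ S₁ →
        (T₂ : Subgroup ↥L).map L.subtype ≤ S₂ →
        meet t (S₁ : Subgroup G) = meet t (S₂ : Subgroup G)) := by
  induction d using Nat.strong_induction_on with
  | _ d ih =>
  have hsub : ∀ {A B : Subgroup G}, A < B → Nat.card G - Nat.card B < Nat.card G - Nat.card A := by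
    intro A B hAB
    have h1 : Nat.card A < Nat.card B := by
      refine lt_of_le_of_ne (Subgroup.card_le_of_le hAB.le) fun he => hAB.ne ?_
      exact Subgroup.eq_of_le_of_card_ge hAB.le he.ge
    have h2 : Nat.card B ≤ Nat.card G := Subgroup.card_le_card_group B
    omega
  have hQ : ∀ P : Subgroup G, Nat.card G - Nat.card P = d → IsPGroup 2 P → (∃ x ∈ P, IsConj t x) →
      ∀ S₁ S₂ : Sylow 2 G, P ≤ S₁ → P ≤ S₂ →
        meet t (S₁ : Subgroup G) = meet t (S₂ : Subgroup G) := by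
    intro P hd hP hx S₁ S₂ h₁ h₂
    rcases h₁.eq_or_lt with he₁ | hl₁
    · have : (S₂ : Subgroup G) = S₁ := S₁.is_maximal' S₂.isPGroup' (he₁ ▸ h₂)
      rw [this]
    rcases h₂.eq_or_lt with he₂ | hl₂
    · have : (S₁ : Subgroup G) = S₂ := S₂.is_maximal' S₁.isPGroup' (he₂ ▸ h₁)
      rw [this]
    obtain ⟨x, hxP, hxt⟩ := hx
    by_cases hN : Subgroup.normalizer (P : Set G) = ⊤
    · have hall : ∀ S : Sylow 2 G, P ≤ S → meet t (S : Subgroup G) = {z | IsConj t z} := by
        intro S hS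
        refine Set.Subset.antisymm (fun z hz => hz.1) fun z hz => ⟨hz, z, hS ?_, hz,
          Relation.EqvGen.refl _⟩
        obtain ⟨g, hg⟩ := isConj_iff.mp (hxt.symm.trans hz)
        rw [← hg]
        have hgN : g ∈ Subgroup.normalizer (P : Set G) := hN ▸ Subgroup.mem_top g
        exact (Subgroup.mem_normalizer_iff.mp hgN x).mp hxP
      rw [hall S₁ h₁, hall S₂ h₂]
    · have step : ∀ S : Sylow 2 G, P < (S : Subgroup G) →
          ∃ (T : Sylow 2 ↥(Subgroup.normalizer (P : Set G))) (V : Sylow 2 G),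
            (T : Subgroup _).map (Subgroup.normalizer (P : Set G)).subtype ≤ V ∧
            P < (T : Subgroup _).map (Subgroup.normalizer (P : Set G)).subtype ∧
            meet t (S : Subgroup G) = meet t (V : Subgroup G) := by
        intro S hS
        have hP₁ := lt_inf_normalizer hS
        have hp₁ : IsPGroup 2 ↥((S : Subgroup G) ⊓ Subgroup.normalizer (P : Set G)) :=
          S.isPGroup'.to_le inf_le_left
        obtain ⟨T, hT⟩ := exists_sylow_in inf_le_right hp₁
        obtain ⟨V, hV⟩ := (T.isPGroup'.map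
          (Subgroup.normalizer (P : Set G)).subtype).exists_le_sylow
        refine ⟨T, V, hV, hP₁.trans_le hT, ?_⟩
        exact (ih _ (hd ▸ hsub hP₁)).1 _ rfl hp₁ ⟨x, hP₁.le hxP, hxt⟩ S V inf_le_left
          (hT.trans hV)
      obtain ⟨T₁, V₁, hV₁, hlt₁, e₁⟩ := step S₁ hl₁
      obtain ⟨T₂, V₂, hV₂, -, e₂⟩ := step S₂ hl₂
      rw [e₁, e₂]
      exact (ih _ (hd ▸ hsub hlt₁)).2 _ hN ⟨x, Subgroup.le_normalizer hxP, hxt⟩ T₁ T₂ rfl V₁ V₂
        hV₁ hV₂
  refine ⟨hQ, ?_⟩
  intro L hL hx T₁ T₂ hd S₁ S₂ h₁ h₂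
  obtain ⟨x, hxL, hxt⟩ := hx
  set M : Subgroup G := setStab (meet t L) with hMdef
  have hcard : Nat.card ↥((T₂ : Subgroup ↥L).map L.subtype) =
      Nat.card ↥((T₁ : Subgroup ↥L).map L.subtype) := by
    rw [← Nat.card_congr ((T₁ : Subgroup ↥L).equivMapOfInjective L.subtype L.subtype_injective).toEquiv,
      ← Nat.card_congr ((T₂ : Subgroup ↥L).equivMapOfInjective L.subtype L.subtype_injective).toEquiv,
      T₁.card_eq_multiplicity, T₂.card_eq_multiplicity]
  have hk₁ := meet_sylow_eq hA hL T₁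
  have hk₂ := meet_sylow_eq hA hL T₂
  by_cases hM : M = ⊤
  · have hall : ∀ S : Sylow 2 G, meet t L ⊆ meet t (S : Subgroup G) →
        meet t (S : Subgroup G) = {z | IsConj t z} := by
      intro S hS
      refine Set.Subset.antisymm (fun z hz => hz.1) fun z hz => hS ?_
      obtain ⟨g, hg⟩ := isConj_iff.mp (hxt.symm.trans hz)
      rw [← hg]
      have hgM : g ∈ M := hM ▸ Subgroup.mem_top g
      exact (hgM x).mp ⟨hxt, x, hxL, hxt, Relation.EqvGen.refl _⟩
    rw [hall S₁ (hk₁ ▸ meet_mono h₁), hall S₂ (hk₂ ▸ meet_mono h₂)]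
  rcases h₁.eq_or_lt with he₁ | hl₁
  · have hc : Nat.card ↥(S₂ : Subgroup G) = Nat.card ↥(S₁ : Subgroup G) := by
      rw [S₁.card_eq_multiplicity, S₂.card_eq_multiplicity]
    have he₂ : (T₂ : Subgroup ↥L).map L.subtype = S₂ := by
      refine Subgroup.eq_of_le_of_card_ge h₂ ?_
      rw [hc, hcard, he₁]
    rw [← he₁, ← he₂, hk₁, hk₂]
  have hl₂ : (T₂ : Subgroup ↥L).map L.subtype < S₂ := by
    refine lt_of_le_of_ne h₂ fun he₂ => hl₁.ne ?_
    refine Subgroup.eq_of_le_of_card_ge h₁ ?_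
    rw [← hcard, he₂, S₁.card_eq_multiplicity, S₂.card_eq_multiplicity]
  have step : ∀ (T : Sylow 2 ↥L) (S : Sylow 2 G),
      (T : Subgroup ↥L).map L.subtype < (S : Subgroup G) →
      Nat.card G - Nat.card ↥((T : Subgroup ↥L).map L.subtype) = d →
      ∃ (U : Sylow 2 ↥M) (V : Sylow 2 G),
        (U : Subgroup ↥M).map M.subtype ≤ V ∧
        (T : Subgroup ↥L).map L.subtype < (U : Subgroup ↥M).map M.subtype ∧
        meet t (S : Subgroup G) = meet t (V : Subgroup G) := by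
    intro T S hS hdT
    have hP₁ := lt_inf_normalizer hS
    set P₁ := (S : Subgroup G) ⊓
      Subgroup.normalizer (((T : Subgroup ↥L).map L.subtype : Subgroup G) : Set G)
    have hp₁ : IsPGroup 2 ↥P₁ := S.isPGroup'.to_le inf_le_left
    have hle : P₁ ≤ M := by
      refine inf_le_right.trans ?_
      rw [hMdef, ← meet_sylow_eq hA hL T]
      exact normalizer_le_setStab
    obtain ⟨U, hU⟩ := exists_sylow_in hle hp₁
    obtain ⟨V, hV⟩ := (U.isPGroup'.map M.subtype).exists_le_sylow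
    refine ⟨U, V, hV, hP₁.trans_le hU, ?_⟩
    obtain ⟨y, hy, hyt, -⟩ := hA L hL x hxL hxt T
    exact hQ _ hdT (T.isPGroup'.map L.subtype) ⟨y, hy, hyt⟩ S V hS.le
      (hP₁.le.trans (hU.trans hV))
  obtain ⟨U₁, V₁, hV₁, hlt₁, e₁⟩ := step T₁ S₁ hl₁ hd
  obtain ⟨U₂, V₂, hV₂, -, e₂⟩ := step T₂ S₂ hl₂ (by rw [hcard, hd])
  rw [e₁, e₂]
  have hxM : x ∈ M := by
    intro z
    constructor
    · exact meet_conj fun a ha => L.mul_mem (L.mul_mem hxL ha) (L.inv_mem hxL)
    · intro hz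
      have := meet_conj (g := x⁻¹) (fun a ha => L.mul_mem (L.mul_mem (L.inv_mem hxL) ha)
        (L.inv_mem (L.inv_mem hxL))) hz
      simpa [mul_assoc] using this
  exact (ih _ (hd ▸ hsub hlt₁)).2 M hM ⟨x, hxM, hxt⟩ U₁ U₂ rfl V₁ V₂ hV₁ hV₂

end Step

/-- Every Sylow 2-subgroup meets every component of the odd product graph on a class of
involutions. -/
theorem sylow_meets_component (n : ℕ) : ∀ (G : Type u) [Group G] [Finite G], Nat.card G = n →
    ∀ (t x : G) (S : Sylow 2 G), orderOf t = 2 → IsConj t x →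
      ∃ y ∈ (S : Subgroup G), IsConj t y ∧ Link t x y := by
  induction n using Nat.strong_induction_on with
  | _ n ihn =>
  intro G _ _ hn t x S ht hx
  have hA : ∀ L : Subgroup G, L ≠ ⊤ → ∀ a ∈ L, IsConj t a → ∀ T : Sylow 2 ↥L,
      ∃ y ∈ (T : Subgroup ↥L).map L.subtype, IsConj t y ∧ Link t a y := by
    intro L hL a ha hat T
    have hlt : Nat.card L < n := by
      rw [← hn]
      refine lt_of_le_of_ne (Subgroup.card_le_card_group L) fun he => hL ?_
      exact L.eq_top_of_card_eq he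
    have ho : orderOf (⟨a, ha⟩ : ↥L) = 2 := by
      rw [Subgroup.orderOf_mk]
      obtain ⟨g, hg⟩ := isConj_iff.mp hat
      rw [← hg, ← MulAut.conj_apply, MulEquiv.orderOf_eq, ht]
    obtain ⟨y, hy, hyc, hl⟩ := ihn _ hlt ↥L rfl ⟨a, ha⟩ ⟨a, ha⟩ T ho (IsConj.refl _)
    exact ⟨y, ⟨y, hy, rfl⟩, hat.trans (L.subtype.map_isConj hyc), link_subgroup L hat hl⟩
  have hord : ∀ a, IsConj t a → orderOf a = 2 := by
    intro a hat
    obtain ⟨g, hg⟩ := isConj_iff.mp hat
    rw [← hg, ← MulAut.conj_apply, MulEquiv.orderOf_eq, ht]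
  have hsq : ∀ a, IsConj t a → a * a = 1 := by
    intro a hat
    have := pow_orderOf_eq_one a
    rwa [hord a hat, pow_two] at this
  have hpz : ∀ a, IsConj t a → IsPGroup 2 ↥(Subgroup.zpowers a) := by
    intro a hat
    exact IsPGroup.of_card (n := 1) (by rw [Nat.card_zpowers, hord a hat, pow_one])
  obtain ⟨S', hS'⟩ := (hpz x hx).exists_le_sylow
  obtain ⟨g, hg⟩ := MulAction.exists_smul_eq G S' S
  have hy : g * x * g⁻¹ ∈ (S : Subgroup G) := by
    rw [← hg, Sylow.coe_subgroup_smul]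
    exact Subgroup.mem_pointwise_smul_iff_inv_smul_mem.mpr (by
      simpa [MulAut.smul_def, mul_assoc] using hS' (Subgroup.mem_zpowers x))
  set y := g * x * g⁻¹
  have hyt : IsConj t y := hx.trans (isConj_iff.mpr ⟨g, rfl⟩)
  by_cases hlink : Link t x y
  · exact ⟨y, hy, hyt, hlink⟩
  have hD : Subgroup.closure ({x, y} : Set G) ≠ ⊤ := by
    intro hD
    exact hlink (Relation.EqvGen.rel _ _ ⟨hx, hyt, odd_of_conj_in_closure (hsq x hx) (hsq y hyt)
      (g := g) (hD ▸ Subgroup.mem_top g) rfl⟩)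
  have hxD : x ∈ Subgroup.closure ({x, y} : Set G) := Subgroup.subset_closure (by simp)
  have hyD : y ∈ Subgroup.closure ({x, y} : Set G) := Subgroup.subset_closure (by simp)
  set D := Subgroup.closure ({x, y} : Set G)
  obtain ⟨T₁, hT₁⟩ := exists_sylow_in ((Subgroup.zpowers_le).mpr hxD) (hpz x hx)
  obtain ⟨T₂, hT₂⟩ := exists_sylow_in ((Subgroup.zpowers_le).mpr hyD) (hpz y hyt)
  obtain ⟨V₁, hV₁⟩ := (T₁.isPGroup'.map D.subtype).exists_le_sylow
  obtain ⟨V₂, hV₂⟩ := (T₂.isPGroup'.map D.subtype).exists_le_sylow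
  have e : meet t (V₁ : Subgroup G) = meet t (V₂ : Subgroup G) :=
    (both_claims hA _).2 D hD ⟨x, hxD, hx⟩ T₁ T₂ rfl V₁ V₂ hV₁ hV₂
  have e' : meet t (V₂ : Subgroup G) = meet t (S : Subgroup G) :=
    (both_claims hA _).1 (Subgroup.zpowers y) rfl (hpz y hyt) ⟨y, Subgroup.mem_zpowers y, hyt⟩
      V₂ S (hT₂.trans hV₂) ((Subgroup.zpowers_le).mpr hy)
  have hxm : x ∈ meet t (V₁ : Subgroup G) :=
    ⟨hx, x, hV₁ (hT₁ (Subgroup.mem_zpowers x)), hx, Relation.EqvGen.refl _⟩
  rw [e, e'] at hxm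
  exact hxm.2

/-- In a simple group the odd product graph on a class of involutions is connected. -/
theorem link_of_simple [Finite G] [IsSimpleGroup G] (t : G) (ht : orderOf t = 2) {x : G}
    (hx : IsConj t x) : Link t t x := by
  let K : Subgroup G :=
    { carrier := {g | ∀ a, IsConj t a → Link t a (g * a * g⁻¹)}
      one_mem' := fun a _ => by simpa [Link] using Relation.EqvGen.refl a
      mul_mem' := by
        intro g h hg hh a ha
        have h1 := hh a ha
        have h2 := hg (h * a * h⁻¹) (ha.trans (isConj_iff.mpr ⟨h, rfl⟩))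
        have := Relation.EqvGen.trans _ _ _ h1 h2
        simpa [Link, mul_assoc] using this
      inv_mem' := by
        intro g hg a ha
        have h1 := hg (g⁻¹ * a * g) (ha.trans (isConj_iff.mpr ⟨g⁻¹, by simp⟩))
        have := Relation.EqvGen.symm _ _ h1
        simpa [Link, mul_assoc] using this }
  have hKn : K.Normal := by
    constructor
    intro k hk g a ha
    have h1 := hk (g⁻¹ * a * g) (ha.trans (isConj_iff.mpr ⟨g⁻¹, by simp⟩))
    simpa [mul_assoc] using link_conj g h1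
  obtain ⟨S, hS⟩ := (IsPGroup.of_card (n := 1) (G := ↥(Subgroup.zpowers t))
    (by rw [Nat.card_zpowers, ht, pow_one])).exists_le_sylow
  have hne : Nontrivial ↥(S : Subgroup G) := by
    refine ⟨⟨⟨t, hS (Subgroup.mem_zpowers t)⟩, 1, ?_⟩⟩
    intro h
    have h1 : t = 1 := congrArg Subtype.val h
    rw [h1, orderOf_one] at ht
    exact absurd ht (by decide)
  have hc : Nontrivial ↥(Subgroup.center ↥(S : Subgroup G)) := S.isPGroup'.center_nontrivial
  obtain ⟨z, hz⟩ := exists_ne (1 : ↥(Subgroup.center ↥(S : Subgroup G)))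
  have hzK : ((z : ↥(S : Subgroup G)) : G) ∈ K := by
    intro a ha
    obtain ⟨y, hy, -, hl⟩ := sylow_meets_component _ G rfl t a S ht ha
    have hcomm : ((z : ↥(S : Subgroup G)) : G) * y = y * ((z : ↥(S : Subgroup G)) : G) :=
      congrArg Subtype.val ((Subgroup.mem_center_iff.mp z.2 ⟨y, hy⟩).symm)
    have h1 := link_conj ((z : ↥(S : Subgroup G)) : G) hl
    rw [hcomm, mul_inv_cancel_right] at h1
    exact Relation.EqvGen.trans _ _ _ hl (Relation.EqvGen.symm _ _ h1)
  have hzne : ((z : ↥(S : Subgroup G)) : G) ≠ 1 := fun h => hz (Subtype.ext (Subtype.ext h))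
  have hK : K = ⊤ := (hKn.eq_bot_or_eq_top).resolve_left fun hb => hzne (by
    rw [hb] at hzK; exact hzK)
  obtain ⟨g, hg⟩ := isConj_iff.mp hx
  have : g ∈ K := hK ▸ Subgroup.mem_top g
  rw [← hg]
  exact this t (IsConj.refl t)

end CfsgLib.OddGraph
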